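import Groth.Agent.Lib.Helper3.ExtendLN2
import Groth.Agent.Lib.Helper9.RefStalk2
import Groth.Agent.Lib.Helper9.CohGlue


universe u
open CategoryTheory CategoryTheory.Limits AlgebraicGeometry Opposite TopologicalSpace
open Groth.Agent.Lib.Helper29.QCoh Groth.Agent.Lib.Helper3

namespace Groth.Agent.Lib.Helper2.CohCentre

variable {X : Scheme.{u}}

/-- an endomorphism of `O_X` is multiplication by the image of `1`. -/
theorem unit_endo_app (f : unitM X ⟶ unitM X) (U : X.Opens) :
    f.app U (toUnit (1 : Γ(X, U))) = res (unitM X) (le_top : U ≤ ⊤) (f.app ⊤ (toUnit 1)) := by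
  rw [← app_res, res_toUnit_one]

variable (M : X.Modules)

/-- the graph section `(1, m)` of `O ⊞ M` over `U`. -/
noncomputable def gsec {U : X.Opens} (m : Γ(M, U)) : Γ((unitM X ⊞ M : X.Modules), U) :=
  (biprod.inl : unitM X ⟶ unitM X ⊞ M).app U (toUnit 1) + (biprod.inr : M ⟶ unitM X ⊞ M).app U m

theorem fst_gsec {U : X.Opens} (m : Γ(M, U)) :
    (biprod.fst : unitM X ⊞ M ⟶ unitM X).app U (gsec M m) = toUnit 1 := by
  unfold gsec
  rw [map_add]
  have h1 : (biprod.fst : unitM X ⊞ M ⟶ unitM X).app U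
      ((biprod.inl : unitM X ⟶ unitM X ⊞ M).app U (toUnit 1)) = toUnit 1 := by
    have := congrArg (fun k : unitM X ⟶ unitM X => (k.app U) (toUnit 1))
      (biprod.inl_fst (X := unitM X) (Y := M))
    exact this
  have h2 : (biprod.fst : unitM X ⊞ M ⟶ unitM X).app U
      ((biprod.inr : M ⟶ unitM X ⊞ M).app U m) = 0 := by
    have := congrArg (fun k : M ⟶ unitM X => (k.app U) m)
      (biprod.inr_fst (X := unitM X) (Y := M))
    exact this
  rw [h1, h2, add_zero]

theorem snd_gsec {U : X.Opens} (m : Γ(M, U)) :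
    (biprod.snd : unitM X ⊞ M ⟶ M).app U (gsec M m) = m := by
  unfold gsec
  rw [map_add]
  have h1 : (biprod.snd : unitM X ⊞ M ⟶ M).app U
      ((biprod.inl : unitM X ⟶ unitM X ⊞ M).app U (toUnit 1)) = 0 := by
    have := congrArg (fun k : unitM X ⟶ M => (k.app U) (toUnit 1))
      (biprod.inl_snd (X := unitM X) (Y := M))
    exact this
  have h2 : (biprod.snd : unitM X ⊞ M ⟶ M).app U
      ((biprod.inr : M ⟶ unitM X ⊞ M).app U m) = m := by
    have := congrArg (fun k : M ⟶ M => (k.app U) m)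
      (biprod.inr_snd (X := unitM X) (Y := M))
    exact this
  rw [h1, h2, zero_add]

theorem res_gsec {U V : X.Opens} (h : V ≤ U) (m : Γ(M, U)) :
    res _ h (gsec M m) = gsec M (res M h m) := by
  unfold gsec
  rw [map_add, ← app_res, ← app_res, res_toUnit_one]

end Groth.Agent.Lib.Helper2.CohCentre
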