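import Groth.Agent.Lib.Helper2.CohCentre.Basic

universe u
open CategoryTheory CategoryTheory.Limits AlgebraicGeometry Opposite TopologicalSpace
open Groth.Agent.Lib.Helper29.QCoh Groth.Agent.Lib.Helper3

namespace Groth.Agent.Lib.Helper2.CohCentre

variable {X : Scheme.{u}} (M : X.Modules)

theorem toUnit_injective {V : X.Opens} {a b : Γ(X, V)} (h : toUnit a = toUnit b) : a = b := h

/-- Lemma C: the first projection is injective on sections over `U` of the subsheaf generated
on `U` by the graph section. -/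
theorem fst_injective_of_genSub {U : X.Opens} (m : Γ(M, U)) (K : SubSh (unitM X ⊞ M : X.Modules))
    (hK : K.carrier U = (SubSh.genSub U {gsec M m}).carrier U)
    (t : Γ(K.toModules, U))
    (ht : (biprod.fst : unitM X ⊞ M ⟶ unitM X).app U (K.ι.app U t) = 0) : t = 0 := by
  apply K.ι_app_injective U
  rw [map_zero]
  have hw : K.ι.app U t ∈ (SubSh.genSub U {gsec M m}).carrier U := by
    rw [← hK]; exact K.ι_app_mem U t
  set w := K.ι.app U t with hwdef
  -- local data
  have hloc : ∀ x : U, ∃ (T' : X.Opens) (h₁ : T' ≤ U), x.1 ∈ T' ∧ res _ h₁ w = 0 := by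
    intro x
    obtain ⟨T', h₁, h₂, hx, hm⟩ := hw x.1 ⟨x.2, x.2⟩
    refine ⟨T', h₁, hx, ?_⟩
    unfold spanRes at hm
    rw [Set.image_singleton, Submodule.mem_span_singleton] at hm
    obtain ⟨a, ha⟩ := hm
    have h3 := congrArg ((biprod.fst : unitM X ⊞ M ⟶ unitM X).app T') ha
    rw [Scheme.Modules.Hom.app_smul, app_res, app_res, fst_gsec, ht, map_zero,
      res_toUnit_one, ← toUnit_eq_smul_one] at h3
    have ha0 : a = 0 := toUnit_injective (h3.trans (by rfl))
    rw [← ha, ha0, zero_smul]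
  choose T' h₁ hx hz using hloc
  refine eq_zero_of_res_cover_eq_zero _ T' h₁ ?_ w hz
  intro y hy
  exact Opens.mem_iSup.mpr ⟨⟨y, hy⟩, hx ⟨y, hy⟩⟩

end Groth.Agent.Lib.Helper2.CohCentre
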