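import Groth.Agent.Lib.Helper2.CohCentre.Inj


universe u
open CategoryTheory CategoryTheory.Limits AlgebraicGeometry Opposite TopologicalSpace
open Groth.Agent.Lib.Helper29.QCoh Groth.Agent.Lib.Helper3

namespace Groth.Agent.Lib.Helper2.CohCentre

variable {X : Scheme.{u}}

abbrev CohCat (X : Scheme.{u}) := ObjectProperty.FullSubcategory (fun M : X.Modules => Coh.IsCoh M)

noncomputable def Oc (X : Scheme.{u}) : CohCat X := ⟨unitM X, Groth.Agent.Lib.Helper9.RefStalk.isCoh_unit X⟩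

/-- the global function attached to a natural endomorphism of the identity of `Coh(X)`. -/
noncomputable def rOf (φ : 𝟭 (CohCat X) ⟶ 𝟭 (CohCat X)) : Γ(X, ⊤) :=
  (show Γ(unitM X, ⊤) from (φ.app (Oc X)).hom.app ⊤ (toUnit 1))

theorem app_Oc_one (φ : 𝟭 (CohCat X) ⟶ 𝟭 (CohCat X)) (U : X.Opens) :
    (φ.app (Oc X)).hom.app U (toUnit 1) = toUnit (X.presheaf.map (homOfLE (le_top : U ≤ ⊤)).op (rOf φ)) := by
  have := unit_endo_app (φ.app (Oc X)).hom U
  exact this

theorem app_eq_smul [IsNoetherian X] (φ : 𝟭 (CohCat X) ⟶ 𝟭 (CohCat X)) (M : CohCat X)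
    (U : X.Opens) (m : Γ(M.obj, U)) :
    (φ.app M).hom.app U m = (X.presheaf.map (homOfLE (le_top : U ≤ ⊤)).op (rOf φ)) • m := by
  have hM1 : M.obj.IsQuasicoherent := M.property.1
  have hF : (unitM X ⊞ M.obj : X.Modules).IsQuasicoherent :=
    Groth.Agent.Lib.Helper9.CohGlue.isQuasicoherent_biprod _ _
  have hX : ∀ x : X, ∃ U : X.Opens, x ∈ U ∧ NoetherianSpace (U : Set X) := by
    intro x
    refine ⟨⊤, trivial, ?_⟩
    have : NoetherianSpace X := inferInstance
    rw [Opens.coe_top]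
    exact (noetherianSpace_set_iff _).2 (fun t _ => NoetherianSpace.isCompact t)
  obtain ⟨K, h1, h2, h3⟩ := SubSh.exists_extension_of_locallyNoetherian hX U
    (unitM X ⊞ M.obj : X.Modules)
    (SubSh.genSub U {gsec M.obj m}) (SubSh.isSat_genSub U {gsec M.obj m})
    (fun T hT hTU => ⟨SubSh.isQCOn_genSub U {gsec M.obj m} hT hTU,
      SubSh.genSub_fg U {gsec M.obj m} (Set.finite_singleton _) hT hTU⟩)
  let Kc : CohCat X := ⟨K.toModules, ⟨h1, h2⟩⟩
  let p1 : Kc ⟶ Oc X := ⟨K.ι ≫ biprod.fst⟩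
  let p2 : Kc ⟶ M := ⟨K.ι ≫ biprod.snd⟩
  have n1 := φ.naturality p1
  have n2 := φ.naturality p2
  have n1' : (K.ι ≫ biprod.fst) ≫ (φ.app (Oc X)).hom = (φ.app Kc).hom ≫ (K.ι ≫ biprod.fst) :=
    congrArg (fun k => k.hom) n1
  have n2' : (K.ι ≫ biprod.snd) ≫ (φ.app M).hom = (φ.app Kc).hom ≫ (K.ι ≫ biprod.snd) :=
    congrArg (fun k => k.hom) n2
  have hs0 : gsec M.obj m ∈ K.carrier U := by
    rw [h3 U le_rfl]
    refine SubSh.mem_genSub_of_mem_spanRes U {gsec M.obj m} le_rfl ?_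
    exact Submodule.subset_span ⟨_, rfl, res_self _ _⟩
  set s : Γ(K.toModules, U) := K.mkSec U (gsec M.obj m) hs0 with hs
  have hιs : K.ι.app U s = gsec M.obj m := K.ι_app_mkSec U _ hs0
  set ρ := X.presheaf.map (homOfLE (le_top : U ≤ ⊤)).op (rOf φ) with hρ
  -- key claim
  have key : (φ.app Kc).hom.app U s = ρ • s := by
    have hd : (show Γ(K.toModules, U) from (φ.app Kc).hom.app U s) - ρ • s = 0 := by
      apply fst_injective_of_genSub M.obj m K (h3 U le_rfl)
      rw [map_sub, map_sub, Scheme.Modules.Hom.app_smul, Scheme.Modules.Hom.app_smul, hιs, fst_gsec]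
      have e1 := congrArg (fun k : Kc.obj ⟶ unitM X => k.app U s) n1'
      simp only [Scheme.Modules.Hom.comp_app] at e1
      have e1' : (biprod.fst : unitM X ⊞ M.obj ⟶ unitM X).app U (K.ι.app U ((φ.app Kc).hom.app U s))
          = (φ.app (Oc X)).hom.app U ((biprod.fst : unitM X ⊞ M.obj ⟶ unitM X).app U (K.ι.app U s)) :=
        e1.symm
      rw [e1', hιs, fst_gsec, app_Oc_one, ← toUnit_eq_smul_one, sub_self]
    exact sub_eq_zero.mp hd
  have e2 := congrArg (fun k : Kc.obj ⟶ M.obj => k.app U s) n2'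
  simp only [Scheme.Modules.Hom.comp_app] at e2
  have e2' : (φ.app M).hom.app U ((biprod.snd : unitM X ⊞ M.obj ⟶ M.obj).app U (K.ι.app U s))
      = (biprod.snd : unitM X ⊞ M.obj ⟶ M.obj).app U (K.ι.app U ((φ.app Kc).hom.app U s)) := e2
  rw [hιs, snd_gsec, key, Scheme.Modules.Hom.app_smul, Scheme.Modules.Hom.app_smul, hιs,
    snd_gsec] at e2'
  exact e2'

end Groth.Agent.Lib.Helper2.CohCentre
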